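import Cfsg.Agent.TypeLFive.KModel
import Cfsg.Agent.GH.Defs

/-!
# GH-Q, scenario A: `S = W ≀ 2` with `W` semidihedral is a 2-group of type `PSL(5, q)`, `q ≡ 3 mod 4`
-/

set_option autoImplicit false

namespace Cfsg.Agent.GH.QA.ModelL5

open Cfsg Subgroup Cfsg.Agent.GH.Defs
open Cfsg.Agent.TwoFusion.QDBasic
open Cfsg.Agent.TypeLFive

/-! ### An abstract isomorphism criterion -/

/-- Two bijective parametrisations with the same multiplication table. -/
theorem nonempty_equiv {ι S S' : Type*} [Mul S] [Mul S'] (p : ι → S) (p' : ι → S')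
    (hp : Function.Bijective p) (hp' : Function.Bijective p') (m : ι → ι → ι)
    (hm : ∀ i j, p i * p j = p (m i j)) (hm' : ∀ i j, p' i * p' j = p' (m i j)) :
    Nonempty (S ≃* S') := by
  refine ⟨{ (Equiv.ofBijective p hp).symm.trans (Equiv.ofBijective p' hp') with
    map_mul' := ?_ }⟩
  intro a b
  obtain ⟨i, rfl⟩ := hp.2 a
  obtain ⟨j, rfl⟩ := hp.2 b
  have h1 : ∀ k, (Equiv.ofBijective p hp).symm (p k) = k := fun k => by
    rw [Equiv.symm_apply_eq]; rfl
  show (Equiv.ofBijective p' hp') ((Equiv.ofBijective p hp).symm (p i * p j)) =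
    (Equiv.ofBijective p' hp') ((Equiv.ofBijective p hp).symm (p i)) *
      (Equiv.ofBijective p' hp') ((Equiv.ofBijective p hp).symm (p j))
  rw [hm, h1, h1, h1]
  exact (hm' i j).symm

/-! ### Semidihedral groups of the same order are isomorphic -/

section qd

variable {S : Type*} [Group S] {n : ℕ} {u : ZMod (2 ^ n) → S} {y : S}

/-- the parametrisation -/
def pt (u : ZMod (2 ^ n) → S) (y : S) : ZMod (2 ^ n) × Bool → S
  | (a, false) => u a
  | (a, true) => u a * y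

/-- the table -/
def tab (n : ℕ) : ZMod (2 ^ n) × Bool → ZMod (2 ^ n) × Bool → ZMod (2 ^ n) × Bool
  | (a, false), (b, e) => (a + b, e)
  | (a, true), (b, false) => (a + ((2 : ZMod (2 ^ n)) ^ (n - 1) - 1) * b, true)
  | (a, true), (b, true) => (a + ((2 : ZMod (2 ^ n)) ^ (n - 1) - 1) * b, false)

theorem pt_bijective (h : IsQDCoord n u y) : Function.Bijective (pt u y) := by
  constructor
  · rintro ⟨a, _ | _⟩ ⟨b, _ | _⟩ hab
    · exact Prod.ext (h.u_inj a b hab) rfl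
    · exact absurd hab (h.u_ne a b)
    · exact absurd hab.symm (h.u_ne b a)
    · exact Prod.ext (h.u_inj a b (mul_right_cancel (show u a * y = u b * y from hab))) rfl
  · intro s
    rcases h.cases s with ⟨a, rfl⟩ | ⟨a, rfl⟩
    · exact ⟨(a, false), rfl⟩
    · exact ⟨(a, true), rfl⟩

theorem pt_mul (h : IsQDCoord n u y) (i j : ZMod (2 ^ n) × Bool) :
    pt u y i * pt u y j = pt u y (tab n i j) := by
  rcases i with ⟨a, _ | _⟩ <;> rcases j with ⟨b, _ | _⟩
  · show u a * u b = u (a + b)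
    exact h.u_mul a b
  · show u a * (u b * y) = u (a + b) * y
    rw [← mul_assoc, h.u_mul]
  · show u a * y * u b = u (a + _) * y
    rw [mul_assoc, h.y_u, ← mul_assoc, h.u_mul]
  · show u a * y * (u b * y) = u (a + _)
    rw [mul_assoc, ← mul_assoc y, h.y_u, mul_assoc _ y y, h.y_y, mul_one, h.u_mul]

theorem equiv_of_qdcoord {S' : Type*} [Group S'] {u' : ZMod (2 ^ n) → S'} {y' : S'}
    (h : IsQDCoord n u y) (h' : IsQDCoord n u' y') : Nonempty (S ≃* S') :=
  nonempty_equiv _ _ (pt_bijective h) (pt_bijective h') (tab n) (pt_mul h) (pt_mul h')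

end qd

theorem equiv_of_quasiDihedral {S S' : Type*} [Group S] [Group S'] [Finite S] [Finite S']
    (h : IsQuasiDihedral S) (h' : IsQuasiDihedral S') (hc : Nat.card S = Nat.card S') :
    Nonempty (S ≃* S') := by
  obtain ⟨n, u, y, hu⟩ := exists_qdcoord h
  obtain ⟨u', y', hu'⟩ := exists_qdcoord' h' n (by rw [← hc, hu.card])
  exact equiv_of_qdcoord hu hu'

/-! ### Wreath products of isomorphic groups are isomorphic -/

section wr

variable {G W : Type*} [Group G] [Group W] {S : Subgroup G} {f : W × W →* G} {w : G}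

/-- the parametrisation -/
def wpt (h : Model.Wr S f w) : (W × W) × Bool → S
  | (p, false) => ⟨f p, h.mem p⟩
  | (p, true) => ⟨f p * w, h.fw_mem p⟩

/-- the table -/
def wtab (W : Type*) [Group W] : (W × W) × Bool → (W × W) × Bool → (W × W) × Bool
  | (p, false), (q, e) => (p * q, e)
  | (p, true), (q, e) => (p * q.swap, !e)

theorem wpt_bijective (h : Model.Wr S f w) : Function.Bijective (wpt h) := by
  constructor
  · rintro ⟨a, _ | _⟩ ⟨b, _ | _⟩ hab
    · exact Prod.ext (h.inj (congrArg Subtype.val hab)) rfl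
    · exact absurd (congrArg Subtype.val hab) (h.f_ne_fw a b)
    · exact absurd (congrArg Subtype.val hab).symm (h.f_ne_fw b a)
    · exact Prod.ext (h.inj (mul_right_cancel
        (show f a * w = f b * w from congrArg Subtype.val hab))) rfl
  · rintro ⟨s, hs⟩
    rcases h.cases s hs with ⟨x, y, rfl⟩ | ⟨x, y, rfl⟩
    · exact ⟨((x, y), false), rfl⟩
    · exact ⟨((x, y), true), rfl⟩

theorem wpt_mul (h : Model.Wr S f w) (i j : (W × W) × Bool) :
    wpt h i * wpt h j = wpt h (wtab W i j) := by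
  rcases i with ⟨p, _ | _⟩ <;> rcases j with ⟨q, _ | _⟩ <;> apply Subtype.ext
  · show f p * f q = f (p * q)
    exact (map_mul f p q).symm
  · show f p * (f q * w) = f (p * q) * w
    rw [← mul_assoc, map_mul]
  · show f p * w * f q = f (p * q.swap) * w
    rw [mul_assoc, show w * f q = f q.swap * w from h.w_f q.1 q.2, ← mul_assoc, map_mul]
  · show f p * w * (f q * w) = f (p * q.swap)
    rw [mul_assoc, ← mul_assoc w, show w * f q = f q.swap * w from h.w_f q.1 q.2, mul_assoc _ w w,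
      h.w_w, mul_one, map_mul]

theorem equiv_of_wr {G' W' : Type*} [Group G'] [Group W'] {S' : Subgroup G'} {f' : W' × W' →* G'}
    {w' : G'} (h : Model.Wr S f w) (h' : Model.Wr S' f' w') (e : W ≃* W') :
    Nonempty (S ≃* S') := by
  have he : Function.Bijective (fun i : (W × W) × Bool => (((e i.1.1, e i.1.2) : W' × W'), i.2)) := by
    constructor
    · rintro ⟨⟨a, b⟩, c⟩ ⟨⟨a', b'⟩, c'⟩ hab
      simp only [Prod.mk.injEq, EmbeddingLike.apply_eq_iff_eq] at hab ⊢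
      exact hab
    · rintro ⟨⟨a, b⟩, c⟩
      exact ⟨((e.symm a, e.symm b), c), by simp⟩
  refine nonempty_equiv (wpt h) (fun i => wpt h' (((e i.1.1, e i.1.2) : W' × W'), i.2))
    (wpt_bijective h) ((wpt_bijective h').comp he) (wtab W) (wpt_mul h) ?_
  intro i j
  rw [wpt_mul h']
  congr 1
  rcases i with ⟨⟨a, b⟩, _ | _⟩ <;> rcases j with ⟨⟨a', b'⟩, _ | _⟩ <;>
    simp [wtab]

end wr

/-! ### The field -/

/-- Dirichlet: a prime `p` with `p ≡ 2^(n-1) - 1 mod 2^n`. -/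
theorem exists_prime {n : ℕ} (hn : 3 ≤ n) : ∃ p : ℕ, p.Prime ∧ p % 2 ^ n = 2 ^ (n - 1) - 1 := by
  have h0 : (2 : ℕ) ^ n = 2 * 2 ^ (n - 1) := by
    rw [← pow_succ']; congr 1; omega
  have h4 : (2 : ℕ) ^ (n - 1) = 2 * 2 ^ (n - 2) := by
    rw [← pow_succ']; congr 1; omega
  have h2 : 1 ≤ (2 : ℕ) ^ (n - 2) := Nat.one_le_two_pow
  have hodd : Odd (2 ^ (n - 1) - 1) := ⟨2 ^ (n - 2) - 1, by omega⟩
  have hcop : Nat.Coprime (2 ^ (n - 1) - 1) (2 ^ n) := by
    apply Nat.Coprime.pow_right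
    exact (Nat.coprime_two_right).2 hodd
  haveI : NeZero (2 ^ n : ℕ) := ⟨by positivity⟩
  obtain ⟨p, -, hp, hpm⟩ := Nat.forall_exists_prime_gt_and_eq_mod
    (q := 2 ^ n) (a := ((2 ^ (n - 1) - 1 : ℕ) : ZMod (2 ^ n)))
    ((ZMod.isUnit_iff_coprime _ _).2 hcop) 0
  refine ⟨p, hp, ?_⟩
  rw [ZMod.natCast_eq_natCast_iff'] at hpm
  rw [hpm, Nat.mod_eq_of_lt]
  omega

/-- The order of a Sylow 2-subgroup of `GL(2, p)`. -/
theorem card_sylow {n p : ℕ} (hn : 3 ≤ n) (hp : p.Prime) (hpm : p % 2 ^ n = 2 ^ (n - 1) - 1)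
    [Fact p.Prime] (Q : Sylow 2 (GL (Fin 2) (ZMod p))) :
    Nat.card Q = 2 ^ (n + 1) := by
  have h0 : (2 : ℕ) ^ n = 2 * 2 ^ (n - 1) := by
    rw [← pow_succ']; congr 1; omega
  have h4 : (2 : ℕ) ^ (n - 1) = 2 * 2 ^ (n - 2) := by
    rw [← pow_succ']; congr 1; omega
  have h5 : (2 : ℕ) ^ (n - 2) = 2 * 2 ^ (n - 3) := by
    rw [← pow_succ']; congr 1; omega
  have h6 : 1 ≤ (2 : ℕ) ^ (n - 3) := Nat.one_le_two_pow
  -- p = 2^n k + 2^(n-1) - 1
  obtain ⟨k, hk⟩ : ∃ k, p = 2 ^ n * k + (2 ^ (n - 1) - 1) :=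
    ⟨p / 2 ^ n, by have := Nat.div_add_mod p (2 ^ n); omega⟩
  have hcard : Nat.card (GL (Fin 2) (ZMod p)) = (p ^ 2 - 1) * (p ^ 2 - p) := by
    rw [Matrix.card_GL_field, Fin.prod_univ_two]
    simp [ZMod.card]
  have hp3 : 3 ≤ p := by omega
  -- p + 1 = 2^(n-1) (2k+1), p - 1 = 2 * (odd)
  have hp1 : p + 1 = 2 ^ (n - 1) * (2 * k + 1) := by
    rw [hk, h0]
    have : 1 ≤ 2 ^ (n - 1) := Nat.one_le_two_pow
    zify [this]
    ring
  have hpm1 : p - 1 = 2 * (2 ^ (n - 2) * (2 * k + 1) - 1) := by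
    rw [h4, mul_assoc] at hp1
    omega
  have hodd1 : Odd (2 ^ (n - 2) * (2 * k + 1) - 1) := by
    rw [h5, mul_assoc]
    have : 1 ≤ 2 ^ (n - 3) * (2 * k + 1) := Nat.one_le_iff_ne_zero.2 (by positivity)
    exact ⟨2 ^ (n - 3) * (2 * k + 1) - 1, by omega⟩
  have hpodd : Odd p := by
    rw [hk, h0]
    exact ⟨2 ^ (n - 1) * k + 2 ^ (n - 2) - 1, by
      have : 1 ≤ 2 ^ (n - 2) := Nat.one_le_two_pow
      rw [mul_assoc]; omega⟩
  have hfac : Nat.card (GL (Fin 2) (ZMod p)) =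
      2 ^ (n + 1) * ((2 * k + 1) * (2 ^ (n - 2) * (2 * k + 1) - 1) ^ 2 * p) := by
    rw [hcard]
    have e1 : p ^ 2 - 1 = (p + 1) * (p - 1) := by
      have := Nat.sq_sub_sq p 1
      simpa using this
    have e2 : p ^ 2 - p = p * (p - 1) := by
      rw [Nat.mul_sub, mul_one, sq]
    rw [e1, e2, hp1, hpm1]
    have e3 : (2 : ℕ) ^ (n + 1) = 2 ^ (n - 1) * 4 := by
      rw [show n + 1 = (n - 1) + 2 by omega, pow_add]
      norm_num
    rw [e3]
    ring
  rw [Sylow.card_eq_multiplicity, hfac]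
  congr 1
  have hne : (2 * k + 1) * (2 ^ (n - 2) * (2 * k + 1) - 1) ^ 2 * p ≠ 0 := by
    have h7 : 2 ^ (n - 2) * (2 * k + 1) - 1 ≠ 0 := by
      rcases hodd1 with ⟨m, hm⟩; omega
    have h8 : p ≠ 0 := hp.ne_zero
    positivity
  rw [Nat.factorization_mul (by positivity) hne, Finsupp.add_apply,
    Nat.Prime.factorization_pow Nat.prime_two]
  have h9 : ((2 * k + 1) * (2 ^ (n - 2) * (2 * k + 1) - 1) ^ 2 * p).factorization 2 = 0 := by
    apply Nat.factorization_eq_zero_of_not_dvd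
    intro hd
    have h10 : Odd ((2 * k + 1) * (2 ^ (n - 2) * (2 * k + 1) - 1) ^ 2 * p) :=
      ((odd_two_mul_add_one k).mul (hodd1.pow)).mul hpodd
    exact (Nat.not_even_iff_odd.2 h10) (even_iff_two_dvd.2 hd)
  rw [h9]
  simp

/-! ### The main theorem -/

/-- **`SD ≀ 2` is of type `PSL(5,q)`.** -/
theorem typeL5_of_wr {G W : Type*} [Group G] [Group W] [Finite W] {S : Subgroup G}
    {f : W × W →* G} {w : G} (h : Model.Wr S f w) (hW : IsQuasiDihedral W) : TypeL5 S := by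
  obtain ⟨n, hn, hc, -⟩ := id hW
  obtain ⟨p, hp, hpm⟩ := exists_prime hn
  haveI : Fact p.Prime := ⟨hp⟩
  have h0 : (2 : ℕ) ^ n = 4 * 2 ^ (n - 2) := by
    rw [show n = (n - 2) + 2 by omega, pow_add]; simp; ring
  have h4 : (2 : ℕ) ^ (n - 1) = 4 * 2 ^ (n - 3) := by
    rw [show n - 1 = (n - 3) + 2 by omega, pow_add]; simp; ring
  have h6 : 1 ≤ (2 : ℕ) ^ (n - 3) := Nat.one_le_two_pow
  have hp4 : p % 4 = 3 := by
    have h1 : p % 2 ^ n % 4 = p % 4 := Nat.mod_mod_of_dvd _ ⟨2 ^ (n - 2), h0⟩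
    rw [← h1, hpm, h4]; omega
  have hodd : Odd (Fintype.card (ZMod p)) := by
    rw [ZMod.card, Nat.odd_iff]; omega
  obtain ⟨Q⟩ : Nonempty (Sylow 2 (GL (Fin 2) (ZMod p))) := inferInstance
  have hQ : IsQuasiDihedral Q := (Cfsg.Agent.S1217.result Q).1 (by rw [ZMod.card]; exact hp4)
  have hcQ := card_sylow hn hp hpm Q
  obtain ⟨e⟩ := equiv_of_quasiDihedral hW hQ (by rw [hc]; exact hcQ.symm)
  have hwr := KSide.wr0 (Q : Subgroup (GL (Fin 2) (ZMod p))) Q.isPGroup'
  obtain ⟨f', -, hf'⟩ := KModel.toModel hwr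
  obtain ⟨e'⟩ := equiv_of_wr h hf' e
  have hp2 : IsPGroup 2 (KSide.S0 (Q : Subgroup (GL (Fin 2) (ZMod p)))) := by
    obtain ⟨k, hk⟩ := (IsPGroup.iff_card).1 Q.isPGroup'
    apply IsPGroup.of_card (n := 2 * k + 1)
    rw [hwr.card_eq, hk]
    ring
  exact ⟨ZMod p, inferInstance, inferInstance, hodd, hp2.toSylow (KSide.odd_index hodd Q), ⟨e'⟩⟩

/-- **Version with subgroups**: `S = W₁ ⊔ ⟨t⟩`, `t` an involution, `W₁` semidihedral, `W₁` and `W₁^t`
commute elementwise and meet trivially. -/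
theorem typeL5_of_subgroups {G : Type*} [Group G] {S W₁ : Subgroup G} [Finite W₁] {t : G}
    (ht : t * t = 1) (hS : S = W₁ ⊔ zpowers t) (ht1 : t ≠ 1)
    (hcomm : ∀ x ∈ W₁, ∀ y ∈ W₁, x * (t * y * t⁻¹) = (t * y * t⁻¹) * x)
    (hinf : ∀ x ∈ W₁, ∀ y ∈ W₁, x = t * y * t⁻¹ → x = 1) (hW : IsQuasiDihedral W₁) : TypeL5 S := by
  have htinv : t⁻¹ = t := inv_eq_of_mul_eq_one_left ht
  let f : W₁ × W₁ →* G :=
    { toFun := fun p => (p.1 : G) * (t * p.2 * t⁻¹)
      map_one' := by simp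
      map_mul' := by
        rintro ⟨a, b⟩ ⟨c, d⟩
        show ((a * c : W₁) : G) * (t * ((b * d : W₁) : G) * t⁻¹) =
          (a : G) * (t * b * t⁻¹) * ((c : G) * (t * d * t⁻¹))
        have h1 := hcomm c c.2 b b.2
        calc ((a * c : W₁) : G) * (t * ((b * d : W₁) : G) * t⁻¹)
            = (a : G) * (c * (t * b * t⁻¹)) * (t * d * t⁻¹) := by
              push_cast; group
          _ = (a : G) * ((t * b * t⁻¹) * c) * (t * d * t⁻¹) := by rw [h1]
          _ = _ := by group }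
  have hf : ∀ a b : W₁, f (a, b) = (a : G) * (t * b * t⁻¹) := fun _ _ => rfl
  have hinj : Function.Injective f := by
    rw [injective_iff_map_eq_one]
    rintro ⟨a, b⟩ hab
    rw [hf] at hab
    have h1 : (a : G) = t * ((b⁻¹ : W₁) : G) * t⁻¹ := by
      rw [eq_inv_of_mul_eq_one_left hab]
      push_cast
      group
    have h2 := hinf a a.2 _ (b⁻¹).2 h1
    have h3 : (b : G) = 1 := by
      rw [h2, one_mul] at hab
      exact conj_eq_one_iff.1 hab
    exact Prod.ext (Subtype.ext h2) (Subtype.ext h3)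
  have hwf : ∀ x y : W₁, t * f (x, y) = f (y, x) * t := by
    intro x y
    rw [hf, hf]
    have h1 := hcomm y y.2 x x.2
    calc t * ((x : G) * (t * y * t⁻¹)) = (t * x * t⁻¹) * (t * t) * y * t⁻¹ := by group
      _ = (t * x * t⁻¹) * y * t⁻¹ := by rw [ht, mul_one]
      _ = (y * (t * x * t⁻¹)) * t⁻¹ := by rw [h1]
      _ = _ := by rw [htinv]
  have hne : ∀ p, f p ≠ t := by
    rintro ⟨a, b⟩ hab
    have h1 := hwf a b
    rw [hab] at h1
    have h2 : f (b, a) = f (a, b) := by rw [hab]; exact (mul_right_cancel h1).symm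
    have h3 : b = a := congrArg Prod.fst (hinj h2)
    subst h3
    rw [hf] at hab
    have h4 : (b : G) * t * b = 1 := by
      calc (b : G) * t * b = ((b : G) * (t * b * t⁻¹)) * t := by group
        _ = 1 := by rw [hab, ht]
    have h5 : t = (b : G)⁻¹ * (b : G)⁻¹ := by
      calc t = (b : G)⁻¹ * ((b : G) * t * b) * (b : G)⁻¹ := by group
        _ = _ := by rw [h4, mul_one]
    have h6 : t ∈ W₁ := by
      rw [h5]; exact mul_mem (inv_mem b.2) (inv_mem b.2)
    exact ht1 (hinf t h6 t h6 (by group))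
  have hwr : Model.Wr S f t := by
    refine ⟨hinj, ?_, ?_, ht, hwf, hne, ?_⟩
    · rintro ⟨a, b⟩
      rw [hf, hS]
      exact mul_mem (mem_sup_left a.2) (mul_mem (mul_mem (mem_sup_right (mem_zpowers t))
        (mem_sup_left b.2)) (inv_mem (mem_sup_right (mem_zpowers t))))
    · rw [hS]; exact mem_sup_right (mem_zpowers t)
    · let K : Subgroup G :=
        { carrier := {s | (∃ p, s = f p) ∨ ∃ p, s = f p * t}
          one_mem' := Or.inl ⟨1, (map_one f).symm⟩
          mul_mem' := by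
            rintro _ _ (⟨p, rfl⟩ | ⟨p, rfl⟩) (⟨q, rfl⟩ | ⟨q, rfl⟩)
            · exact Or.inl ⟨p * q, (map_mul f p q).symm⟩
            · exact Or.inr ⟨p * q, by rw [← mul_assoc, map_mul]⟩
            · exact Or.inr ⟨p * q.swap, by
                rw [mul_assoc, show t * f q = f q.swap * t from hwf q.1 q.2, ← mul_assoc,
                  map_mul]⟩
            · exact Or.inl ⟨p * q.swap, by
                rw [mul_assoc, ← mul_assoc t, show t * f q = f q.swap * t from hwf q.1 q.2,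
                  mul_assoc _ t t, ht, mul_one, map_mul]⟩
          inv_mem' := by
            rintro _ (⟨p, rfl⟩ | ⟨p, rfl⟩)
            · exact Or.inl ⟨p⁻¹, (map_inv f p).symm⟩
            · exact Or.inr ⟨p⁻¹.swap, by
                rw [mul_inv_rev, htinv, ← map_inv, show t * f p⁻¹ = f p⁻¹.swap * t from
                  hwf p⁻¹.1 p⁻¹.2]⟩ }
      have hK : S ≤ K := by
        rw [hS, sup_le_iff, zpowers_le]
        refine ⟨fun x hx => Or.inl ⟨(⟨x, hx⟩, 1), ?_⟩, Or.inr ⟨1, by rw [map_one, one_mul]⟩⟩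
        rw [hf]; simp
      intro s hs
      rcases hK hs with ⟨⟨x, y⟩, h⟩ | ⟨⟨x, y⟩, h⟩
      · exact Or.inl ⟨x, y, h⟩
      · exact Or.inr ⟨x, y, h⟩
  exact typeL5_of_wr hwr hW

end Cfsg.Agent.GH.QA.ModelL5
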